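import Groth.Agent.EtPBCq.ProperBC
import Groth.Agent.EtContLib.StalkPush
import Groth.Agent.S0156
import Groth.Agent.EtFound.Stalk
import Groth.Agent.CdDim.TwoDim
import Groth.Agent.CdDim.TorsionAll
import Groth.Agent.CdDim.Dim
import Groth.Agent.CharPTop.CdTop
import Groth.Agent.FibDim.BaseField

/-! Fibre dimension bounds for higher direct images along proper morphisms -/

set_option autoImplicit false
set_option maxHeartbeats 1000000
set_option backward.isDefEq.respectTransparency false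
set_option backward.isDefEq.respectTransparency.types false
set_option linter.style.haveILetI false

universe u

open CategoryTheory CategoryTheory.Limits AlgebraicGeometry Opposite

namespace Groth.Agent.EtPBCdim

/-- The dimension of a geometric fibre is bounded by that of the fibres. -/
theorem topologicalKrullDim_geomFibre_le {X Y : Scheme.{u}} (f : X ⟶ Y) [LocallyOfFiniteType f] {n : ℕ}
    (hdim : ∀ y : Y, topologicalKrullDim (f.fiber y) ≤ n) {Ω : Type u} [Field Ω]
    (ξ : Spec (CommRingCat.of Ω) ⟶ Y) : topologicalKrullDim ↥(pullback f ξ) ≤ n := by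
  obtain ⟨yφ, rfl⟩ : ∃ yφ : Σ y : Y, Y.residueField y ⟶ CommRingCat.of Ω,
      Spec.map yφ.2 ≫ Y.fromSpecResidueField yφ.1 = ξ :=
    ⟨_, (Scheme.SpecToEquivOfField Ω Y).symm_apply_apply ξ⟩
  let e := (pullbackLeftPullbackSndIso f (Y.fromSpecResidueField yφ.1) (Spec.map yφ.2))
  haveI : Subsingleton ↥(Spec (Y.residueField yφ.1)) := FibDim.subsingleton_spec_field _
  haveI : Subsingleton ↥(Spec (CommRingCat.of Ω)) := FibDim.subsingleton_spec_field _
  have h := IsPullback.of_hasPullback (f.fiberToSpecResidueField yφ.1) (Spec.map yφ.2)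
  haveI : LocallyOfFiniteType (pullback.snd (f.fiberToSpecResidueField yφ.1) (Spec.map yφ.2)) :=
    MorphismProperty.pullback_snd _ _ inferInstance
  rw [← (Scheme.homeoOfIso e).isHomeomorph.topologicalKrullDim_eq]
  exact (FibDim.topologicalKrullDim_baseChange h).trans_le (hdim yφ.1)

/-- Vanishing of the higher direct images from the vanishing on geometric fibres. -/
theorem isZero_Rpush_of_geomFibres {X Y : Scheme.{u}} (f : X ⟶ Y) [IsProper f] [EtCoh.BCCont f]
    (F : EtCoh.Ab X) (hF : EtCoh.IsTorsion F) (q : ℕ)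
    (h : ∀ (Ω : Type u) [Field Ω] [IsSepClosed Ω] (ξ : Spec (CommRingCat.of Ω) ⟶ Y),
      Subsingleton (EtCoh.H (pullback f ξ) ((EtCoh.pull (pullback.fst f ξ)).obj F) q)) :
    IsZero ((EtCoh.Rpush f q).obj F) := by
  refine (EtFound.isZero_iff_stalks _).2 fun Ω _ _ ξ => ?_
  obtain ⟨e⟩ := Groth.Agent.S0156.result f ξ F hF q
  haveI := h Ω ξ
  exact (AddCommGrpCat.isZero_of_subsingleton _).of_iso e

/-- Higher direct images of torsion sheaves vanish above twice the fibre dimension. -/
theorem isZero_Rpush_two_dim {X Y : Scheme.{u}} (f : X ⟶ Y) [IsProper f] [EtCoh.BCCont f]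
    (n : ℕ) (hdim : ∀ y : Y, topologicalKrullDim (f.fiber y) ≤ n)
    (F : EtCoh.Ab X) (hF : EtCoh.IsTorsion F) (q : ℕ) (hq : 2 * n < q) :
    IsZero ((EtCoh.Rpush f q).obj F) := by
  refine isZero_Rpush_of_geomFibres f F hF q fun Ω _ _ ξ => ?_
  haveI : IsProper (pullback.snd f ξ) := MorphismProperty.pullback_snd _ _ ‹IsProper f›
  haveI : CompactSpace ↥(pullback f ξ) := QuasiCompact.compactSpace_of_compactSpace (pullback.snd f ξ)
  haveI : QuasiSeparatedSpace ↥(pullback f ξ) :=
    quasiSeparatedSpace_of_quasiSeparated (pullback.snd f ξ)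
  exact CdDim.cohDimLE_of_forall (d := 2 * n + 0) (fun ℓ hℓ =>
    CdDim.cdLEAt_two_dim (pullback.snd f ξ) n (topologicalKrullDim_geomFibre_le f hdim ξ) hℓ 0
      (CdDim.cdLEAt_zero_of_isSepClosed Ω ℓ)) _ (GalTorLib.isTorsion_pull _ F hF) q hq

/-- In characteristic `p`, higher direct images of `p`-primary sheaves vanish above the fibre dimension. -/
theorem isZero_Rpush_charP {X Y : Scheme.{u}} (f : X ⟶ Y) [IsProper f] [EtCoh.BCCont f]
    (p : ℕ) (hp : p.Prime) (hY : (p : Γ(Y, ⊤)) = 0) (n : ℕ) (hdim : ∀ y : Y, topologicalKrullDim (f.fiber y) ≤ n)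
    (F : EtCoh.Ab X) (hF : Dix.IsPrimaryTorsion p F) (q : ℕ) (hq : n < q) :
    IsZero ((EtCoh.Rpush f q).obj F) := by
  have hF' : EtCoh.IsTorsion F := fun U s x => by
    obtain ⟨V, g, hv, k, hk⟩ := hF U s x
    exact ⟨V, g, hv, isOfFinAddOrder_iff_nsmul_eq_zero.2 ⟨p ^ k, pow_pos hp.pos k, hk⟩⟩
  refine isZero_Rpush_of_geomFibres f F hF' q fun Ω _ _ ξ => ?_
  haveI : IsProper (pullback.snd f ξ) := MorphismProperty.pullback_snd _ _ ‹IsProper f›
  haveI : Fact p.Prime := ⟨hp⟩
  haveI : CharP Ω p := by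
    refine (CharP.charP_iff_prime_eq_zero hp).2 ?_
    have := congrArg (((Scheme.ΓSpecIso (CommRingCat.of Ω)).hom).hom.comp (ξ.appTop.hom)) hY
    rwa [map_natCast, map_zero] at this
  exact CharPTop.cdLEAt p (pullback.snd f ξ) (topologicalKrullDim_geomFibre_le f hdim ξ) _
    (CdDim.primary_pull hp _ F hF) q hq

end Groth.Agent.EtPBCdim
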